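import Mathlib
import Cfsg.Agent.Base
import Cfsg.Agent.Lib.Odd.Nine
import Cfsg.Agent.Lib.Odd.Values

/-! Simple groups with a strongly self-centralising elementary abelian subgroup of order nine. -/

set_option autoImplicit false
set_option linter.style.haveILetI false
set_option linter.unusedSectionVars false

namespace H53.Odd

open Cfsg Subgroup

variable {G : Type*} [Group G]

theorem lt_two {p : ℕ → Prop} : (∀ k < 2, p k) ↔ p 0 ∧ p 1 :=
  ⟨fun h => ⟨h 0 (by omega), h 1 (by omega)⟩, fun h k hk => by interval_cases k <;> tauto⟩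

theorem lt_four {p : ℕ → Prop} : (∀ k < 4, p k) ↔ p 0 ∧ p 1 ∧ p 2 ∧ p 3 :=
  ⟨fun h => ⟨h 0 (by omega), h 1 (by omega), h 2 (by omega), h 3 (by omega)⟩,
    fun h k hk => by interval_cases k <;> tauto⟩

/-- representatives of the four lines -/
def r2 (k : ℕ) : V9 :=
  if k = 0 then (1, 0) else if k = 1 then (0, 1) else if k = 2 then (1, 1) else (1, 2)

theorem EM.no_k2 [Finite G] [IsSimpleGroup G] {f : V9 → G} (h : EM f k2)
    (hz : ∀ u, u ≠ 0 → Nat.card (centralizer ({f u} : Set G)) = 9) : False := by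
  have hre : ∀ k, IsConj (f (r2 k)) (f (r2 k))⁻¹ := fun k =>
    h.real ((by decide : ∀ u : V9, k2 u = k2 (-u)) _)
  have hc : Cols 4 (fun k => f (r2 k)) [9, 9, 9, 9] := by
    refine ⟨fun k _ => hre k, fun k hk l hl hkl => ?_, fun k hk => ?_⟩
    · rw [h.fus]
      interval_cases k <;> interval_cases l <;> first | exact absurd rfl hkl | decide
    · rw [hz _ (by interval_cases k <;> decide)]
      interval_cases k <;> rfl
  obtain ⟨L, hL, Q, hQ, hv⟩ := hc.exists_vals
    [[0, 1, 1, 1], [1, 0, 1, 1], [1, 1, 0, 1], [1, 1, 1, 0]] 3 (fun χ hχ => by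
      choose p hp using fun k => int_of_three hχ (h.cube _) (hre k)
      choose d hd using fun k => avg3 (h.cube _) (hre k) hχ
      obtain ⟨m, hm⟩ := h.add.avg hχ
      rw [h.sum (fun k => if k = 0 then 0 else r2 (k - 1)) 5 (by decide)
        (by decide) (H6.gen_isClassFunction hχ)] at hm
      have c0 : (Finset.univ.filter fun u : V9 => k2 u = 0).card = 1 := by decide
      have c1 : (Finset.univ.filter fun u : V9 => k2 u = 1).card = 2 := by decide
      have c2 : (Finset.univ.filter fun u : V9 => k2 u = 2).card = 2 := by decide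
      have c3 : (Finset.univ.filter fun u : V9 => k2 u = 3).card = 2 := by decide
      have c4 : (Finset.univ.filter fun u : V9 => k2 u = 4).card = 2 := by decide
      simp [Finset.sum_range_succ, c0, c1, c2, c3, c4, h.add.zero, hp] at hm
      simp only [hp] at hd ⊢
      have e : ∀ k, 2 * p 0 + 2 * p 1 + 2 * p 2 + 2 * p 3 - 2 * p k = 9 * m - 3 * d k := fun k => by
        have : (2 * p 0 + 2 * p 1 + 2 * p 2 + 2 * p 3 - 2 * p k : ℂ) = 9 * m - 3 * d k := by
          linear_combination hm - hd k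
        exact_mod_cast this
      intro i hi
      refine ⟨(p 0 + p 1 + p 2 + p 3 - p i) / 3, ?_⟩
      have := e i
      norm_cast
      interval_cases i <;> simp [Finset.sum_range_succ, gm, g] <;> omega)
    [[-2, 1, 1, 1], [1, -2, 1, 1], [1, 1, -2, 1], [1, 1, 1, -2]]
    [[2, 1, 1, 1], [1, 2, 1, 1], [1, 1, 2, 1], [1, 1, 1, 2]]
    [[[1]], [[2, -1], [-1, 2]], [[3, -1, -1], [-1, 3, -1], [-1, -1, 3]],
      [[4, -1, -1, -1], [-1, 4, -1, -1], [-1, -1, 4, -1], [-1, -1, -1, 4]]] 1 14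
    [[1, 1, 1, 1], [1, 0, 0, 0], [0, 1, 0, 0], [0, 0, 1, 0], [0, 0, 0, 1]]
    [[[0, 0, 0, 1], [0, 0, 1, 0], [0, 1, 0, 0], [1, 0, 0, 0], [1, 1, 1, 1]]]
    [[[1, 1, 1, -2], [1, 1, -2, 1], [1, -2, 1, 1], [-2, 1, 1, 1], [1, 1, 1, 1]]]
    (by decide +kernel)
  obtain rfl := List.mem_singleton.1 hQ
  rcases hv with _ | ⟨h4, _ | ⟨h3, _ | ⟨h2, _ | ⟨h1, _ | ⟨h0, _ | _⟩⟩⟩⟩⟩
  rename_i η4 η3 η2 η1 α
  simp only [lt_four, g, List.getD_cons_succ, List.getD_cons_zero] at h0 h1 h2 h3 h4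
  have hn : ∀ k < 4, ¬ IsConj 1 (f (r2 k)) := fun k hk e =>
    h.ne_one (by interval_cases k <;> decide) (isConj_one_right.1 e)
  have d0 := hL.col (k := 0) (by omega) (hre 0) (hn 0 (by omega))
  have d1 := hL.col (k := 1) (by omega) (hre 1) (hn 1 (by omega))
  have d2 := hL.col (k := 2) (by omega) (hre 2) (hn 2 (by omega))
  have d3 := hL.col (k := 3) (by omega) (hre 3) (hn 3 (by omega))
  have e := hL.coeff (k := 0) (by omega) (f (r2 0)) (f (r2 0)) (f (r2 1)) (hre 1) (Or.inl rfl)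
  rw [h.coeff _ _ _ (by decide) (by decide), show (Finset.univ.filter fun u : V9 =>
    k2 (r2 0) = k2 u ∧ k2 (r2 0) = k2 (-u + r2 1)).card = 0 by decide] at e
  simp only [List.map_cons, List.map_nil, List.sum_cons, List.sum_nil, h0, h1, h2, h3, h4]
    at d0 d1 d2 d3 e
  push_cast at d0 d1 d2 d3 e
  have e1 : η1 1 = -(1 + α 1) := by linear_combination (d1 + d2 + d3) / 3
  have e2 : η2 1 = -(1 + α 1) := by linear_combination (d0 + d2 + d3) / 3
  have e3 : η3 1 = -(1 + α 1) := by linear_combination (d0 + d1 + d3) / 3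
  have e4 : η4 1 = -(1 + α 1) := by linear_combination (d0 + d1 + d2) / 3
  have sα := hL.si α (by simp)
  have n1 := (hL.si η1 (by simp)).one_ne_zero
  have n0 := sα.one_ne_zero
  rw [e1, neg_ne_zero] at n1
  rw [e1, e2, e3, e4, zero_mul, zero_mul, eq_comm, mul_eq_zero] at e
  have e := e.resolve_left H6.card_ne_zero
  field_simp at e
  have : (α 1 - 1) ^ 2 = 0 := by linear_combination e
  have : α 1 = 1 := by linear_combination pow_eq_zero_iff (two_ne_zero) |>.1 this
  exact h.ne_one (u := r2 0) (by decide) (sα.eq_one_of_simple (by rw [this, h0.1]; simp))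

theorem num_k4 {a b c η n : ℤ} (ha : a % 9 = 1) (hb : b % 9 = 1) (hc : c % 9 = 1) (he : η % 9 = 5)
    (ha1 : a ≠ 1) (hb1 : b ≠ 1) (hc1 : c ≠ 1) (hs : 1 + η + a + b + c = 0)
    (hn : 1 + (η ^ 2 + η ^ 2 + a ^ 2 + b ^ 2 + c ^ 2) ≤ n)
    (e : (162 : ℚ) = n * (1 + (-2 / η + 1 / a + 1 / b + 1 / c))) : n = 360 := by
  have k1 : ∀ a : ℤ, a % 9 = 1 → (-1 / 8 : ℚ) ≤ 1 / a := fun a ha => by
    rcases (by omega : 0 < a ∨ a ≤ -8) with h | h
    · have : (0 : ℚ) < 1 / a := by positivity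
      linarith
    · have : (a : ℚ) ≤ -8 := by exact_mod_cast h
      rw [le_div_iff_of_neg (by linarith)]
      linarith
  have k2 : (-2 / 5 : ℚ) ≤ -2 / η := by
    rcases (by omega : η < 0 ∨ 5 ≤ η) with h | h
    · have : (η : ℚ) < 0 := by exact_mod_cast h
      have : (0 : ℚ) < -2 / η := div_pos_of_neg_of_neg (by norm_num) this
      linarith
    · have : (5 : ℚ) ≤ η := by exact_mod_cast h
      rw [le_div_iff₀ (by linarith)]
      linarith
  have hn0 : (0 : ℚ) ≤ n := by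
    have : 0 ≤ n := by nlinarith
    exact_mod_cast this
  have hle : n ≤ 720 := by
    have : (n : ℚ) ≤ 720 := by nlinarith [k1 a ha, k1 b hb, k1 c hc]
    exact_mod_cast this
  have bd : ∀ a : ℤ, a % 9 = 1 → a ≠ 1 → a ^ 2 ≤ 720 →
      a = -26 ∨ a = -17 ∨ a = -8 ∨ a = 10 ∨ a = 19 := fun a h1 h2 h3 => by
    have : -27 < a := by nlinarith
    have : a < 27 := by nlinarith
    omega
  have hη : η = -(1 + a + b + c) := by omega
  have h0 : η ≠ 0 := by omega
  have h0' : (η : ℚ) ≠ 0 := by exact_mod_cast h0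
  have a0 : (a : ℚ) ≠ 0 := by exact_mod_cast (show a ≠ 0 by omega)
  have b0 : (b : ℚ) ≠ 0 := by exact_mod_cast (show b ≠ 0 by omega)
  have c0 : (c : ℚ) ≠ 0 := by exact_mod_cast (show c ≠ 0 by omega)
  have e' : 162 * (η * a * b * c) =
      n * (η * a * b * c - 2 * a * b * c + η * b * c + η * a * c + η * a * b) := by
    have : (162 : ℚ) * (η * a * b * c) =
      n * (η * a * b * c - 2 * a * b * c + η * b * c + η * a * c + η * a * b) := by
      rw [e]; field_simp; ring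
    exact_mod_cast this
  subst hη
  rcases bd a ha ha1 (by nlinarith) with rfl | rfl | rfl | rfl | rfl <;>
  rcases bd b hb hb1 (by nlinarith) with rfl | rfl | rfl | rfl | rfl <;>
  rcases bd c hc hc1 (by nlinarith) with rfl | rfl | rfl | rfl | rfl <;>
  omega

/-- representatives of the two classes -/
def r4 (k : ℕ) : V9 := if k = 0 then (1, 0) else (1, 1)

theorem EM.card_k4 [Finite G] [IsSimpleGroup G] {f : V9 → G} (h : EM f k4)
    (hz : ∀ u, u ≠ 0 → Nat.card (centralizer ({f u} : Set G)) = 9) : Nat.card G = 360 := by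
  have hre : ∀ k, IsConj (f (r4 k)) (f (r4 k))⁻¹ := fun k =>
    h.real ((by decide : ∀ u : V9, k4 u = k4 (-u)) _)
  have hc : Cols 2 (fun k => f (r4 k)) [9, 9] := by
    refine ⟨fun k _ => hre k, fun k hk l hl hkl => ?_, fun k hk => ?_⟩
    · rw [h.fus]
      interval_cases k <;> interval_cases l <;> first | exact absurd rfl hkl | decide
    · rw [hz _ (by interval_cases k <;> decide)]
      interval_cases k <;> rfl
  obtain ⟨L, hL, Q, hQ, hv⟩ := hc.exists_vals [[1, 2], [2, 1]] 3 (fun χ hχ => by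
      obtain ⟨p, q, m, hp, hq, -, hd⟩ := h.int4 hχ
      rw [lt_two]
      simp only [Finset.sum_range_succ, Finset.sum_range_zero, r4, if_true, one_ne_zero, if_false,
        hp, hq, gm, g, List.getD_cons_succ, List.getD_cons_zero]
      norm_cast
      exact ⟨⟨(p + 2 * q) / 3, by omega⟩, ⟨(2 * p + q) / 3, by omega⟩⟩)
    [[-1, 2], [2, -1]] [[4, 3], [3, 4]] [[[1]], [[4, -3], [-3, 4]]] 2 12
    [[1, 1], [1, 0], [0, 1]] [[[0, 1], [1, 0], [1, 1], [1, 1], [1, 1]]]
    [[[2, -1], [-1, 2], [1, 1], [1, 1], [1, 1]]] (by decide +kernel)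
  obtain rfl := List.mem_singleton.1 hQ
  rcases hv with _ | ⟨h4, _ | ⟨h3, _ | ⟨h2, _ | ⟨h1, _ | ⟨h0, _ | _⟩⟩⟩⟩⟩
  rename_i η1 η2 α β γ
  simp only [lt_two, g, List.getD_cons_succ, List.getD_cons_zero] at h0 h1 h2 h3 h4
  have hn : ∀ k < 2, ¬ IsConj 1 (f (r4 k)) := fun k hk e =>
    h.ne_one (by interval_cases k <;> decide) (isConj_one_right.1 e)
  have d0 := hL.col (k := 0) (by omega) (hre 0) (hn 0 (by omega))
  have d1 := hL.col (k := 1) (by omega) (hre 1) (hn 1 (by omega))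
  have e := hL.coeff (k := 0) (by omega) (f (r4 0)) (f (r4 0)) (f (r4 1)) (hre 1) (Or.inl rfl)
  rw [h.coeff _ _ _ (by decide) (by decide), show (Finset.univ.filter fun u : V9 =>
    k4 (r4 0) = k4 u ∧ k4 (r4 0) = k4 (-u + r4 1)).card = 2 by decide,
    hz _ (by decide)] at e
  have hb := hL.bound
  have deg : ∀ δ ∈ [η1, η2, α, β, γ], ∀ p q : ℤ, δ (f (r4 0)) = p → δ (f (r4 1)) = q →
      ∃ d : ℤ, δ 1 = d ∧ (d + 4 * p + 4 * q) % 9 = 0 ∧ (p = d → False) := fun δ hδ p q hp hq => by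
    obtain ⟨d, hd, -⟩ := (hL.si δ hδ).deg
    obtain ⟨p', q', m, hp', hq', e, -⟩ := h.int4 (hL.si δ hδ).isGen
    rw [← hp', ← hq', hd, show ((1, 0) : V9) = r4 0 from rfl, show ((1, 1) : V9) = r4 1 from rfl,
      hp, hq] at e
    have : d + 4 * p + 4 * q = 9 * m := by exact_mod_cast e
    refine ⟨d, hd, by omega, fun e => h.ne_one (u := r4 0) (by decide)
      ((hL.si δ hδ).eq_one_of_simple (by rw [hp, hd, e]))⟩
  obtain ⟨x1, a1, b1, -⟩ := deg η1 (by simp) _ _ h4.1 h4.2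
  obtain ⟨x2, a2, b2, -⟩ := deg η2 (by simp) _ _ h3.1 h3.2
  obtain ⟨a, a3, b3, c3⟩ := deg α (by simp) _ _ h2.1 h2.2
  obtain ⟨b, a4, b4, c4⟩ := deg β (by simp) _ _ h1.1 h1.2
  obtain ⟨c, a5, b5, c5⟩ := deg γ (by simp) _ _ h0.1 h0.2
  simp only [List.map_cons, List.map_nil, List.sum_cons, List.sum_nil, h0, h1, h2, h3, h4,
    a1, a2, a3, a4, a5, Complex.intCast_re] at d0 d1 e hb
  have d0' : 1 + (x1 * 2 + (x2 * (-1) + (a * 1 + (b * 1 + (c * 1 + 0))))) = 0 := by exact_mod_cast d0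
  have d1' : 1 + (x1 * (-1) + (x2 * 2 + (a * 1 + (b * 1 + (c * 1 + 0))))) = 0 := by exact_mod_cast d1
  obtain rfl : x1 = x2 := by omega
  have := num_k4 (a := a) (b := b) (c := c) (η := x1) (n := Nat.card G) (by omega) (by omega)
    (by omega) (by omega) (fun e => c3 e.symm) (fun e => c4 e.symm) (fun e => c5 e.symm) (by omega)
    (by
      have : (1 : ℝ) + (x1 ^ 2 + x1 ^ 2 + a ^ 2 + b ^ 2 + c ^ 2) ≤ Nat.card G := by linarith
      exact_mod_cast this)
    (by
      have : (162 : ℂ) = Nat.card G * (1 + (-2 / x1 + 1 / a + 1 / b + 1 / c)) := by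
        push_cast at e
        linear_combination e
      exact_mod_cast this)
  exact_mod_cast this

end H53.Odd
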