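import Mathlib
import Cfsg.Agent.Lib.Odd.P3J
import Cfsg.Agent.Lib.Odd.Sect

/-! Centralizers of subgroups of `J`. -/

set_option autoImplicit false
set_option maxRecDepth 100000
set_option linter.unusedSectionVars false
set_option linter.unusedVariables false
set_option linter.style.haveILetI false

namespace H53.P3

open Subgroup H54 H27.W H53.Odd

variable {G : Type*} [Group G] [Finite G] {x : ℕ → G}

/-- the normaliser of `J` -/
abbrev NJ (x : ℕ → G) : Subgroup G := normalizer (gen x 3 : Set G)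

/-- `J` normalises no non-trivial subgroup of order prime to three -/
structure N3 (x : ℕ → G) : Prop extends C3 x where
  sig : ∀ K : Subgroup G, (Nat.card K).Coprime 3 → (∀ j ∈ gen x 3, ∀ k ∈ K, j * k * j⁻¹ ∈ K) → K = ⊥
  act : ∀ g ∈ NJ x, ∃ m ∈ Y48, Act x g (lin m)

def Y9 : List ℕ := [6643, 7885, 8371, 8851, 11029, 13891, 14629, 15663, 18093]
def Y24 : List ℕ := [4018, 4252, 5476, 5710, 6591, 6643, 7339, 7885, 8059, 8371, 8851, 9345, 11029, 11289, 13152, 13204, 13891, 14203, 14629, 15175, 15403, 15663, 17599, 18093]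

/-- the reflected direction -/
def rc (a b : ℕ) : ℕ := Nat.mod (Nat.shiftRight 0x5ade50bc252bc2b02c2f2942f095eb58160591908308c2400b5b204811848316b02d60704217042e0ad607042e0842e0ad60791c0529ee2280a23dce791c4791cf5280560540505850294c285812942c0958a500300a9408042a5020108601804218054a03e017860018c2f841e1180700bc3078c600b1ce604601b1c1605c018dc1605cc18c052048508c6029024284630148121423180ac0a80a0b0a0529850b025285812b14a03c8e0294f71140511ee73c8e23c8e7a9400c02a502010a9408042180601086015280b02c8c84184612005ad902408c2418b5800b5bca1784a578560585e5285e12bd6b02d60704217042e0ad607042e0842e0ad600b1ce604601b1c1605c018dc1605cc18c0f805e1800630be10784601c02f0c1e3180a4090a118c052048508c6029024284630160e71610714ae840ae740a04a5204a5200902408421204812042109120481294a40f605ec0bd8163c2c7858f0a5204a4094802409021084812048108424481204a5290160e71610714ae840ae740a04a5204a5207b02f605ec0b1e163c2c78529025204a40b5ad4a50c635294b5ac631a5294a5200016b5a94a18c6a5296b58c634a5294a40000000000000000000000000000000000000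
  (Nat.mul 5 (Nat.add (Nat.mul 27 a) b))) 32

set_option synthInstance.maxSize 4000 in
set_option synthInstance.maxHeartbeats 400000 in
theorem rc_spec : ∀ a < 27, ∀ b < 27, a ≠ 0 → ¬ (b = 0 ∨ b = a ∨ b = sm 2 a) → rc a b < 27 ∧ rc a b ≠ 0 ∧
    (∀ j ∈ [1, 3, 9], ∃ i < 3, ∃ i' < 3, ∃ i'' < 3, j = ad (sm i a) (ad (sm i' b) (sm i'' (rc a b)))) ∧
    ∀ m ∈ Y48, lin m a = a → lin m b = b → (m ∈ Y9 → m = 6643) ∧
      ∀ j < 27, ad (lin m j) (sm 2 j) = 0 ∨ ad (lin m j) (sm 2 j) = rc a b ∨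
        ad (lin m j) (sm 2 j) = sm 2 (rc a b) := by decide +kernel

theorem lin_id : ∀ k < 27, lin 6643 k = k := by decide +kernel

theorem C3.mNJ (h : C3 x) {g : G} {f : ℕ → ℕ} (a : Act x g f) : g ∈ NJ x := h.norm.2 ⟨_, a⟩

theorem C3.zp' (h : C3 x) {k l : ℕ} (hk : k < 27) (hl : l < 27) :
    el x l ∈ zpowers (el x k) ↔ l = 0 ∨ l = k ∨ l = sm 2 k := (h.zp hk).trans
  ⟨Or.imp (h.inj hl (by omega)) (Or.imp (h.inj hl hk) (h.inj hl (neg_lt hk))),
    Or.imp (congrArg _) (Or.imp (congrArg _) (congrArg _))⟩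

theorem C3.sm_mem (h : C3 x) {k i : ℕ} (hk : k < 27) (hi : i < 3) {B : Subgroup G}
    (e : el x k ∈ B) : sm i k < 27 ∧ el x (sm i k) ∈ B := by
  have := (by decide +kernel : ∀ k < 27, ∀ i < 3, sm i k < 27 ∧
    (sm i k = 0 ∨ sm i k = k ∨ sm i k = sm 2 k)) k hk i hi
  exact ⟨this.1, zpowers_le.2 e ((h.zp' hk this.1).2 this.2)⟩

theorem C3.comm_mem (h : C3 x) {g : G} {f : ℕ → ℕ} (a : Act x g f) {r : ℕ} (hr : r < 27)
    (e : ∀ j < 27, ad (f j) (sm 2 j) = 0 ∨ ad (f j) (sm 2 j) = r ∨ ad (f j) (sm 2 j) = sm 2 r)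
    {u : G} (hu : u ∈ gen x 3) : g * u * g⁻¹ * u⁻¹ ∈ zpowers (el x r) := by
  obtain ⟨j, hj, rfl⟩ := h.memJ.1 hu
  rw [(a j hj).2, h.inv hj, h.mul (a j hj).1 (neg_lt hj), h.zp' hr (ad_lt (a j hj).1 (neg_lt hj))]
  exact e j hj

namespace N3

variable (h : N3 x)
include h

theorem pow12 {g : G} (hg : g ∈ NJ x) : g ^ 12 ∈ gen x 3 := by
  obtain ⟨m, hm, a⟩ := h.act g hg
  exact h.of_id (a.pow 12) ((by decide +kernel : ∀ m ∈ Y48, ∀ k < 27, (P3.lin m)^[12] k = k) m hm)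

theorem pow36 {g : G} (hg : g ∈ NJ x) : g ^ 36 = 1 := by
  rw [show 36 = 12 * 3 from rfl, pow_mul, h.cube (h.pow12 hg)]

theorem act3 {g : G} {m : ℕ} (hm : m ∈ Y48) (a : Act x g (lin m)) (e : ∃ n, g ^ 3 ^ n = 1) :
    m ∈ Y9 := by
  obtain ⟨n, e⟩ := e
  have : g ^ 3 ∈ gen x 3 := zpowers_le.2 (show (g ^ 3) ^ 4 ∈ _ from pow_mul g 3 4 ▸ h.pow12 (h.mNJ a))
    (mem_zpowers_pow_iff.2 ((Nat.Coprime.pow_right n (by norm_num)).coprime_dvd_right
      (orderOf_dvd_of_pow_eq_one (show (g ^ 3) ^ 3 ^ n = 1 by rw [← pow_mul, mul_comm, pow_mul, e, one_pow]))))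
  exact (by decide +kernel : ∀ m ∈ Y48, (∀ k ∈ [1, 3, 9], (P3.lin m)^[3] k = k) → m ∈ Y9) m hm
    fun k hk => h.uniq (a.pow 3) (h.act_J this) ((by decide : ∀ k ∈ [1, 3, 9], k < 27) k hk)

theorem memJ3 {g : G} (hg : g ∈ NJ x) (e : ∃ n, g ^ 3 ^ n = 1)
    (hY : ∀ m ∈ Y48, Act x g (lin m) → m ∈ Y9 → m = 6643) : g ∈ gen x 3 := by
  obtain ⟨m, hm, a⟩ := h.act g hg
  obtain rfl := hY m hm a (h.act3 hm a e)
  exact h.of_id a lin_id

theorem sylJ {L : Subgroup G} (hJ : gen x 3 ≤ L)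
    (hY : ∀ g ∈ L, ∀ m ∈ Y48, Act x g (lin m) → m ∈ Y9 → m = 6643) :
    ∃ P : Sylow 3 L, ∀ g : L, g ∈ (P : Subgroup L) ↔ (g : G) ∈ gen x 3 :=
  exists_syl hJ h.pg fun g hg e f => h.memJ3 (mem_normalizer_fintype e) f (hY g hg)

theorem wc {g : G} (hg : ∀ j ∈ gen x 3, g * j * g⁻¹ ∈ NJ x) : g ∈ NJ x := by
  refine mem_normalizer_fintype fun j hj => ?_
  by_contra f
  have c3 : ∀ j ∈ gen x 3, (g * j * g⁻¹) ^ 3 = 1 := fun j hj => by rw [conj_pow, h.cube hj]; group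
  obtain ⟨m, hm, a⟩ := h.act _ (hg j hj)
  obtain ⟨c, hc, e1, e2⟩ := (by decide +kernel : ∀ m ∈ Y9, m ≠ 6643 → ∃ c < 27,
    (∀ k < 27, P3.lin m k = k → k = 0 ∨ k = c ∨ k = sm 2 c) ∧ ∀ n ∈ Y9,
      (∀ k ∈ [1, 3, 9], P3.lin m (P3.lin n k) = P3.lin n (P3.lin m k)) →
        ∃ i < 3, ∀ k < 27, P3.lin n k = (P3.lin m)^[i] k) m (h.act3 hm a ⟨1, c3 j hj⟩)
    (by rintro rfl; exact f (h.of_id a lin_id))
  have h1 := card_le_of_le (show (gen x 3).map (MulAut.conj g).toMonoidHom ≤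
      zpowers (g * j * g⁻¹) ⊔ zpowers (el x c) by
    rintro _ ⟨k, hk, rfl⟩
    have cm : g * j * g⁻¹ * (g * k * g⁻¹) = g * k * g⁻¹ * (g * j * g⁻¹) := by
      rw [conj_mul, conj_mul, h.comm hj hk]
    obtain ⟨n, hn, b⟩ := h.act _ (hg k hk)
    obtain ⟨i, -, e⟩ := e2 n (h.act3 hn b ⟨1, c3 k hk⟩) fun l hl =>
      h.uniq (cm ▸ a.mul b) (b.mul a) ((by decide : ∀ k ∈ [1, 3, 9], k < 27) l hl)
    obtain ⟨l, hl, e'⟩ := h.memJ.1 (h.div b (a.pow i) e)
    have := (h.zp' hc hl).2 (e1 l hl (h.fix a hl (by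
      rw [← e']
      exact ((Commute.self_pow _ i).inv_right.mul_right cm))))
    rw [← e'] at this
    have := mul_mem (mem_sup_left (pow_mem (mem_zpowers (g * j * g⁻¹)) i)) (mem_sup_right this)
    rwa [mul_inv_cancel_left] at this)
  have h2 := Nat.le_of_dvd (Nat.mul_pos Nat.card_pos Nat.card_pos) (H1.card_sup_dvd_of_le_normalizer
    (H := zpowers (g * j * g⁻¹)) (N := zpowers (el x c)) (zpowers_le.2 (mem_normalizer_fintype (by
      rintro _ ⟨k, rfl⟩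
      rw [← conj_zpow, (a c hc).2]
      refine zpow_mem ((h.zp' hc (a c hc).1).2 ?_) k
      exact (by decide +kernel : ∀ m ∈ Y9, m ≠ 6643 → ∀ c < 27,
        (∀ k < 27, P3.lin m k = k → k = 0 ∨ k = c ∨ k = sm 2 c) → P3.lin m c = 0 ∨ P3.lin m c = c ∨
          P3.lin m c = sm 2 c) m (h.act3 hm a ⟨1, c3 j hj⟩)
        (by rintro rfl; exact f (h.of_id a lin_id)) c hc e1))))
  rw [card_map_of_injective (MulAut.conj g).injective, h.cardJ] at h1
  rw [Nat.card_zpowers, Nat.card_zpowers] at h2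
  have := Nat.mul_le_mul (Nat.le_of_dvd (by omega) (orderOf_dvd_of_pow_eq_one (c3 j hj)))
    (Nat.le_of_dvd (by omega) (orderOf_dvd_of_pow_eq_one (h.cube (el_mem hc))))
  omega

theorem g0 {a b c : G} (ha : a ∈ gen x 3) (hb : b ∈ gen x 3) (a1 : a ≠ 1) (b1 : b ∉ zpowers a)
    (ca : c * a = a * c) (cb : c * b = b * c) : c ∈ NJ x := by
  obtain ⟨k, hk, rfl⟩ := h.memJ.1 ha
  obtain ⟨l, hl, rfl⟩ := h.memJ.1 hb
  obtain ⟨r1, r0, r2, r3⟩ := rc_spec k hk l hl (by rintro rfl; exact a1 el0) (mt (h.zp' hk hl).2 b1)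
  generalize rc k l = r at *
  have sp : ∀ B : Subgroup G, el x k ∈ B → el x l ∈ B → el x r ∈ B → gen x 3 ≤ B :=
    fun B e1 e2 e3 => by
      have : ∀ j ∈ [1, 3, 9], el x j ∈ B := fun j hj => by
        obtain ⟨i, hi, i', hi', i'', hi'', rfl⟩ := r2 j hj
        have s1 := h.sm_mem hk hi e1
        have s2 := h.sm_mem hl hi' e2
        have s3 := h.sm_mem r1 hi'' e3
        rw [← h.mul s1.1 (ad_lt s2.1 s3.1), ← h.mul s2.1 s3.1]
        exact mul_mem s1.2 (mul_mem s2.2 s3.2)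
      refine gen_le fun i hi => ?_
      interval_cases i
      exacts [el1 (x := x) ▸ this 1 (by simp), el3 (x := x) ▸ this 3 (by simp),
        el9 (x := x) ▸ this 9 (by simp)]
  let L := centralizer {el x k} ⊓ centralizer {el x l}
  have mL : ∀ {g}, g ∈ L ↔ g * el x k = el x k * g ∧ g * el x l = el x l * g := fun {g} =>
    and_congr mem_centralizer_singleton_iff mem_centralizer_singleton_iff
  have hJ : gen x 3 ≤ L := fun g hg => mL.2 ⟨h.comm hg ha, h.comm hg hb⟩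
  have hY : ∀ g ∈ L, ∀ m ∈ Y48, Act x g (P3.lin m) → _ := fun g hg m hm a =>
    r3 m hm (h.fix a hk (mL.1 hg).1) (h.fix a hl (mL.1 hg).2)
  have hC : ∀ g ∈ L, el x r * g = g * el x r → g ∈ gen x 3 := fun g hg e => by
    have := sp (centralizer {g}) (mem_centralizer_singleton_iff.2 (mL.1 hg).1.symm)
      (mem_centralizer_singleton_iff.2 (mL.1 hg).2.symm) (mem_centralizer_singleton_iff.2 e)
    exact h.centJ (mem_centralizer_singleton_iff.1 (this (mem_gen x (by omega)))).symm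
      (mem_centralizer_singleton_iff.1 (this (mem_gen x (by omega)))).symm
  obtain ⟨P, hP⟩ := h.sylJ hJ fun g hg m hm a => (hY g hg m hm a).1
  rcases t3L hJ P hP (fun _ a _ b => h.comm a b) (el_mem r1) (h.cube (el_mem r1)) (h.ne r1 r0) hC
    (fun n hn e u hu => by
      obtain ⟨m, hm, a⟩ := h.act n (mem_normalizer_fintype e)
      exact h.comm_mem a r1 (hY n hn m hm a).2 hu) with ⟨X, -, x1, x2, x3⟩ | ⟨⟨Y, y1, y2, y3, y4⟩, -⟩
  · obtain rfl := h.sig X x1 fun j hj => x2 j (hJ hj)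
    obtain ⟨_, rfl, e⟩ := x3 c (mL.2 ⟨ca, cb⟩)
    rw [one_mul] at e
    refine mem_normalizer_fintype fun j hj => sp ((gen x 3).comap (MulAut.conj c).toMonoidHom) ?_ ?_
      (zpowers_le.2 (el_mem r1) e) hj
    · show c * _ * c⁻¹ ∈ gen x 3
      rwa [ca, mul_inv_cancel_right]
    · show c * _ * c⁻¹ ∈ gen x 3
      rwa [cb, mul_inv_cancel_right]
  · refine absurd (h.sig Y y3 fun j hj u => (mem_normalizer_iff.1 (sp (normalizer Y) ?_ ?_
      (mem_normalizer_fintype y4) hj) u).1) y2 <;> refine mem_normalizer_fintype fun u hu => ?_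
    · rwa [← (mL.1 (y1 hu)).1, mul_inv_cancel_right]
    · rwa [← (mL.1 (y1 hu)).2, mul_inv_cancel_right]

theorem g1 {a b g : G} (ha : a ∈ gen x 3) (hb : b ∈ gen x 3) (a1 : a ≠ 1) (b1 : b ∉ zpowers a)
    (ca : g * a * g⁻¹ ∈ gen x 3) (cb : g * b * g⁻¹ ∈ gen x 3) : g ∈ NJ x :=
  h.wc fun j hj => h.g0 ca cb (by simpa using a1) (fun ⟨k, e⟩ => b1 ⟨k, by
    simpa [conj_zpow] using e⟩) (by rw [conj_mul, conj_mul, h.comm hj ha])
    (by rw [conj_mul, conj_mul, h.comm hj hb])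

theorem fus {k : ℕ} (hk : k < 27) (hY : ∀ g, ∀ m ∈ Y48, Act x g (lin m) → lin m k = k → m ∈ Y9 →
    m = 6643) {g : G} (hg : g * el x k * g⁻¹ ∈ gen x 3) :
    ∃ n ∈ NJ x, n * el x k * n⁻¹ = g * el x k * g⁻¹ := by
  obtain ⟨P, hP⟩ := h.sylJ (L := centralizer {el x k})
    (fun j hj => mem_centralizer_singleton_iff.2 (h.comm hj (el_mem hk)))
    fun g hg m hm a => hY g m hm a (h.fix a hk (mem_centralizer_singleton_iff.1 hg))
  obtain ⟨c, hc, e⟩ := exists_conj_le P hP (B := (gen x 3).map (MulAut.conj g⁻¹).toMonoidHom) (by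
    rintro _ ⟨j, hj, rfl⟩
    refine mem_centralizer_singleton_iff.2 ?_
    calc g⁻¹ * j * g⁻¹⁻¹ * el x k = g⁻¹ * (j * (g * el x k * g⁻¹)) * g := by group
      _ = el x k * (g⁻¹ * j * g⁻¹⁻¹) := by rw [h.comm hj hg]; group) (h.pg.map _)
  refine ⟨(c * g⁻¹)⁻¹, inv_mem (mem_normalizer_fintype fun j hj => ?_), ?_⟩
  · simpa [mul_assoc] using e _ ⟨j, hj, rfl⟩
  · calc _ = g * (c⁻¹ * (el x k * c)) * g⁻¹ := by group
      _ = _ := by rw [← mem_centralizer_singleton_iff.1 hc]; group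

theorem cent3 {k r : ℕ} (hk : k < 27) (hr : r < 27) (k0 : k ≠ 0) (r0 : ¬ (r = 0 ∨ r = k ∨ r = sm 2 k))
    (hY : ∀ g, ∀ m ∈ Y48, Act x g (lin m) → lin m k = k → (m ∈ Y9 → m = 6643) ∧
      (lin m r = r → m = 6643) ∧ ∀ j < 27, ad (lin m j) (sm 2 j) = 0 ∨ ad (lin m j) (sm 2 j) = r ∨
        ad (lin m j) (sm 2 j) = sm 2 r) {c : G} (hc : c * el x k = el x k * c) : c ∈ NJ x := by
  have mL : ∀ {g}, g ∈ centralizer {el x k} ↔ g * el x k = el x k * g := mem_centralizer_singleton_iff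
  have hJ : gen x 3 ≤ centralizer {el x k} := fun g hg => mL.2 (h.comm hg (el_mem hk))
  have r1 := mt (h.zp' hk hr).1 r0
  obtain ⟨P, hP⟩ := h.sylJ hJ fun g hg m hm a => (hY g m hm a (h.fix a hk (mL.1 hg))).1
  rcases t3L hJ P hP (fun _ a _ b => h.comm a b) (el_mem hr) (h.cube (el_mem hr))
    (h.ne hr fun e => r0 (Or.inl e)) (fun g hg e => by
      obtain ⟨m, hm, a⟩ := h.act g (h.g0 (el_mem hk) (el_mem hr) (h.ne hk k0) r1 (mL.1 hg) e.symm)
      obtain rfl := (hY g m hm a (h.fix a hk (mL.1 hg))).2.1 (h.fix a hr e.symm)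
      exact h.of_id a lin_id)
    (fun n hn e u hu => by
      obtain ⟨m, hm, a⟩ := h.act n (mem_normalizer_fintype e)
      exact h.comm_mem a hr (hY n m hm a (h.fix a hk (mL.1 hn))).2.2 hu) with
    ⟨X, -, x1, x2, x3⟩ | ⟨-, R, -, V, v1, v2, ⟨v3, v4⟩ | ⟨v3, rfl⟩⟩
  · obtain rfl := h.sig X x1 fun j hj => x2 j (hJ hj)
    obtain ⟨_, rfl, e⟩ := x3 c (mL.2 hc)
    rw [one_mul] at e
    exact h.g1 (el_mem hk) (el_mem hr) (h.ne hk k0) r1 (by rw [hc, mul_inv_cancel_right]; exact el_mem hk)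
      (zpowers_le.2 (el_mem hr) e)
  · exfalso
    rw [h.cardJ] at v4
    obtain ⟨⟨a, ha⟩, a1⟩ := ne_bot_iff_exists_ne_one.1
      (show V ≠ ⊥ by rintro rfl; rw [card_bot] at v4; omega)
    obtain ⟨b, hb, b1⟩ : ∃ b ∈ V, b ∉ zpowers a := by
      by_contra! f
      have := (card_le_of_le f).trans (Nat.card_zpowers a ▸ Nat.le_of_dvd (by omega)
        (orderOf_dvd_of_pow_eq_one (h.cube (v1 ha))))
      omega
    obtain ⟨u, hu, e⟩ := H1.exists_mem_orderOf_eq_prime (H := R) Nat.prime_five (by rw [v3])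
    have := orderOf_dvd_of_pow_eq_one (h.pow36 (h.g0 (v1 ha) (v1 hb) (fun e => a1 (Subtype.ext e)) b1
      (cent_five v3 (n := 1) (h.cube (v1 ha)) (v2 a ha) u hu)
      (cent_five v3 (n := 1) (h.cube (v1 hb)) (v2 b hb) u hu)))
    rw [e] at this
    omega
  · obtain rfl := h.sig R (by rw [v3]; norm_num) v2
    rw [card_bot] at v3
    omega

theorem s9J {k w y : ℕ} (hk : k < 27) (hw : w < 27) (hy : y < 27) (k0 : k ≠ 0)
    (hY : ∀ m ∈ Y48, lin m k = k → m ∈ Y9 → m = 6643)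
    (h1 : ∀ j < 27, ∃ u : V9, ∃ i < 3, j = ad (ad (sm u.1.val w) (sm u.2.val y)) (sm i k))
    (h2 : ∀ u : V9, ∀ i < 3, ad (sm u.1.val w) (sm u.2.val y) = sm i k → u = 0) :
    S9 (el x k) (el x w) (el x y) (gen x 3) (NJ x) := by
  have p : ∀ k < 27, ∀ i < 3, sm i k < 27 ∧ el x k ^ i = el x (sm i k) := fun k hk i hi => by
    have s := (by decide +kernel : ∀ k < 27, sm 0 k = 0 ∧ sm 1 k = k ∧ sm 2 k = ad k k) k hk
    refine ⟨(h.sm_mem hk hi (mem_top _)).1, ?_⟩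
    interval_cases i
    · rw [s.1, pow_zero, el0]
    · rw [s.2.1, pow_one]
    · rw [s.2.2, sq, h.mul hk hk]
  have f : ∀ u : V9, ad (sm u.1.val w) (sm u.2.val y) < 27 ∧
      f9 (el x w) (el x y) u = el x (ad (sm u.1.val w) (sm u.2.val y)) := fun u => by
    have p1 := p w hw _ u.1.val_lt
    have p2 := p y hy _ u.2.val_lt
    exact ⟨ad_lt p1.1 p2.1, by rw [f9, p1.2, p2.2, h.mul p1.1 p2.1]⟩
  refine ⟨fun g hg => mem_centralizer_singleton_iff.2 (h.comm hg (el_mem hk)),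
    fun _ a _ b => h.comm a b, fun _ a => h.cube a, fun g hg e e' => h.memJ3
      (mem_normalizer_fintype e) e' fun m hm a => hY m hm (h.fix a hk hg), el_mem hw, el_mem hy,
    fun a ha => ?_, fun u e => ?_, le_normalizer (el_mem hk), le_normalizer, fun g hg e =>
      mem_normalizer_fintype fun a ha => ?_⟩
  · obtain ⟨j, hj, rfl⟩ := h.memJ.1 ha
    obtain ⟨u, i, hi, rfl⟩ := h1 j hj
    refine ⟨u, ?_⟩
    rw [← h.mul (f u).1 (p k hk i hi).1, ← (f u).2, ← (p k hk i hi).2, inv_mul_cancel_left]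
    exact pow_mem (mem_zpowers _) i
  · rw [(f u).2, h.zp' hk (f u).1] at e
    have s := (by decide +kernel : ∀ k < 27, sm 0 k = 0 ∧ sm 1 k = k) k hk
    rcases e with e | e | e
    exacts [h2 u 0 (by omega) (e.trans s.1.symm), h2 u 1 (by omega) (e.trans s.2.symm),
      h2 u 2 (by omega) e]
  · obtain ⟨b, hb, e⟩ := e a ha
    simpa using mul_mem hb (zpowers_le.2 (el_mem hk) e)

theorem modJ {k : ℕ} (hk : k < 27) (k0 : k ≠ 0) {v g : G} (hv : v ∈ gen x 3)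
    (v1 : v ∉ zpowers (el x k)) (hg : g * el x k = el x k * g)
    (e : g * v * g⁻¹ * v⁻¹ ∈ zpowers (el x k)) : g ∈ NJ x :=
  h.g1 (el_mem hk) hv (h.ne hk k0) v1 (by rw [hg, mul_inv_cancel_right]; exact el_mem hk)
    (by simpa using mul_mem (zpowers_le.2 (el_mem hk) e) hv)

theorem cent9 {k w y : ℕ} (hk : k < 27) (k0 : k ≠ 0)
    (s : S9 (el x k) (el x w) (el x y) (gen x 3) (NJ x)) {σ τ : G} {f f' : ℕ}
    (a : Act x σ (lin f)) (a' : Act x τ (lin f')) (σ2 : σ ^ 2 = 1) (τ2 : τ ^ 2 = 1)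
    (στ : σ * τ = τ * σ) (hw : w < 27) (hy : y < 27)
    (e : lin f k = k ∧ lin f' k = k ∧ lin f w = sm 2 w ∧ lin f y = y ∧ lin f' w = w ∧ lin f' y = sm 2 y)
    (hY : ∀ g, ∀ m ∈ Y48, Act x g (lin m) → lin m k = k → ∃ i : H36.W4, ∀ j < 27,
      lin m j = (lin f)^[i.1.val] ((lin f')^[i.2.val] j)) {c : G} (hc : c * el x k = el x k * c) :
    c ∈ NJ x := by
  obtain ⟨e1, e2, e3, e4, e5, e6⟩ := e
  obtain ⟨Y, y0, -, -, y1, y2⟩ := s.nine (a.comm hk e1) (a'.comm hk e2) (h.mNJ a) (h.mNJ a') σ2 τ2 στ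
    (by rw [(a w hw).2, e3, h.inv hw]) (by rw [(a y hy).2, e4]) (by rw [(a' w hw).2, e5])
    (by rw [(a' y hy).2, e6, h.inv hy]) (fun g hg e => by
      obtain ⟨m, hm, b⟩ := h.act g hg
      obtain ⟨i, e⟩ := hY g m hm b (h.fix b hk e)
      have b' := (a.pow i.1.val).mul (a'.pow i.2.val)
      exact ⟨_, (mem_normalizer_iff.1 (h.mNJ b') _).1 (h.div b b' e), i, by simp [mul_assoc]⟩)
    (fun g hg e => h.modJ hk k0 s.hw (fun f => absurd (s.inj (1, 0) (by rwa [f9_10])) (by decide)) hg e)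
    fun v hv v1 => ⟨zpowers (el x k), zpowers_le.2 (mem_centralizer_singleton_iff.2 rfl),
      mem_zpowers _, fun o ho => ⟨pow_mem ho 4, by
        rw [h.comm (zpowers_le.2 (el_mem hk) ho) hv]; simp⟩, fun g hg e => ⟨by
          rintro _ ⟨i, rfl⟩
          rw [← conj_zpow, hg, mul_inv_cancel_right]
          exact zpow_mem (mem_zpowers _) i, g, h.modJ hk k0 hv v1 hg e, by simp⟩⟩
  obtain ⟨u, hu, e⟩ := (y1 c hc).2
  simpa using mul_mem (inv_mem (y2 _ s.cH (fun v hv v1 u hu =>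
    h.modJ hk k0 hv v1 (mem_centralizer_singleton_iff.1 (y0 hu))) hu)) e

end N3

theorem eqns_p3l : True := by
  have := @NJ.eq_1.{0}
  have := @Y9.eq_1
  have := @Y24.eq_1
  have := @rc.eq_1
  trivial

end H53.P3
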