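import Mathlib
import Cfsg.Agent.Base
import Cfsg.Agent.Lib.Odd.V27

/-! The strongly `3`-embedded subgroup `3³ : 2²`. -/

set_option autoImplicit false
set_option linter.style.haveILetI false
set_option linter.unusedSectionVars false
set_option linter.unusedVariables false

namespace H53.Odd.H108

open Cfsg Subgroup

variable {G : Type*} [Group G]

/-- the complement -/
abbrev W4 := ZMod 2 × ZMod 2

/-- a sign -/
def sg (i : ZMod 2) (x : ZMod 3) : ZMod 3 := if i = 0 then x else -x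

/-- the action -/
def act (w : W4) (u : V27) : V27 := (sg (w.1 + w.2) u.1, sg w.1 u.2.1, sg w.2 u.2.2)

/-- the multiplication -/
def mul : V27 × W4 → V27 × W4 → V27 × W4 := sdMul act (· + ·)

/-- the fusion -/
def kap (u : V27) : ℕ :=
  if u.1 = 0 then
    (if u.2.1 = 0 then (if u.2.2 = 0 then 0 else 3) else if u.2.2 = 0 then 2 else 6)
  else if u.2.1 = 0 then (if u.2.2 = 0 then 1 else 5)
  else if u.2.2 = 0 then 4 else if u.1 * u.2.1 * u.2.2 = 1 then 7 else 8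

/-- representatives -/
def rep (k : ℕ) : V27 := [(0, 0, 0), (1, 0, 0), (0, 1, 0), (0, 0, 1), (1, 1, 0), (1, 0, 1),
  (0, 1, 1), (1, 1, 1), (2, 2, 2)].getD k 0

/-- the special classes -/
def PS : List (List (V27 × W4)) :=
  [[(rep 1, 0)], [(rep 2, 0)], [(rep 3, 0)], [(rep 1, (1, 1))], [(rep 2, (0, 1))],
    [(rep 3, (1, 0))], [(rep 4, 0)], [(rep 5, 0)], [(rep 6, 0)], [(rep 7, 0), (rep 8, 0)]]

theorem lt_ten {p : ℕ → Prop} : (∀ k < 10, p k) ↔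
    p 0 ∧ p 1 ∧ p 2 ∧ p 3 ∧ p 4 ∧ p 5 ∧ p 6 ∧ p 7 ∧ p 8 ∧ p 9 :=
  ⟨fun h => ⟨h 0 (by omega), h 1 (by omega), h 2 (by omega), h 3 (by omega), h 4 (by omega),
    h 5 (by omega), h 6 (by omega), h 7 (by omega), h 8 (by omega), h 9 (by omega)⟩,
    fun h k hk => by interval_cases k <;> tauto⟩

variable [Finite G] {H T : Subgroup G} {φ : V27 × W4 → G}

theorem em (hm : Mdl H mul φ) (hT : ∀ g, g ∈ T ↔ ∃ u, φ (u, 0) = g) (ht : TI H (SpT T)) :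
    EM (fun u => φ (u, 0)) kap := by
  have hA : AH fun u => φ (u, 0) := fun u v => by
    rw [← hm.hom, (by decide +kernel : ∀ u v : V27, mul (u, 0) (v, 0) = (u + v, 0)) u v]
  have hi : Function.Injective fun u => φ (u, 0) := fun u v e => (Prod.ext_iff.1 (hm.inj e)).1
  have sp : ∀ u, u ≠ 0 → SpT T (φ (u, 0)) := fun u hu =>
    ⟨1, by rw [pow_one]; exact (hT _).2 ⟨u, rfl⟩, fun e => hu (hi (by
      rw [pow_one] at e; exact e.trans hA.zero.symm))⟩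
  refine ⟨hA, hi, fun u => ?_, fun u hu z h3 hz => ?_, fun u v => ?_⟩
  · rw [← hA.nsmul, (by decide +kernel : ∀ u : V27, 3 • u = 0) u, hA.zero]
  · obtain ⟨p, rfl⟩ := (hm.mem z).1 (ht.ti _ _ z (sp u hu) (sp u hu) (by rw [hz]; group))
    have : φ (mul (mul p p) p) = φ (0, 0) := by
      rw [hm.hom, hm.hom, ← pow_three', h3]; exact hA.zero.symm
    have := (by decide +kernel : ∀ p : V27 × W4, mul (mul p p) p = (0, 0) → p.2 = 0) p
      (hm.inj this)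
    exact ⟨p.1, by rw [← this]⟩
  · by_cases hu : u = 0
    · subst hu
      rw [show φ (0, 0) = 1 from hA.zero, isConj_one_right, ← hA.zero, hi.eq_iff]
      exact (by decide +kernel : ∀ v : V27, v = 0 ↔ kap 0 = kap v) v
    by_cases hv : v = 0
    · subst hv
      rw [show φ (0, 0) = 1 from hA.zero, isConj_one_left, ← hA.zero, hi.eq_iff]
      exact (by decide +kernel : ∀ v : V27, v = 0 ↔ kap v = kap 0) u
    rw [hm.isConj_iff' ht (sp u hu) (sp v hv)]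
    constructor
    · rintro ⟨⟨r, w⟩, e⟩
      have e1 : r + act w u = v + act 0 r := (Prod.ext_iff.1 e).1
      rw [(by decide +kernel : ∀ r : V27, act 0 r = r) r, add_comm] at e1
      rw [← add_right_cancel e1]
      exact (by decide +kernel : ∀ w u, kap u = kap (act w u)) w u
    · intro e
      obtain ⟨w, hw⟩ := (by decide +kernel : ∀ u v, kap u = kap v →
        ∃ w, mul (0, w) (u, 0) = mul (v, 0) (0, w)) u v e
      exact ⟨_, hw⟩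

theorem int (hm : Mdl H mul φ) (hT : ∀ g, g ∈ T ↔ ∃ u, φ (u, 0) = g) (ht : TI H (SpT T))
    (χ : G → ℂ) (hχ : IsGeneralizedCharacter G χ) : ∀ i < 10, ∃ m : ℤ,
      ∑ k ∈ Finset.range 10, (gm [[0, 0, -1, 0, 0, -9, 0, -2, -2, -2],
      [0, 1, 0, 0, 9, 0, 2, 0, 2, 2], [1, 0, 0, 9, 0, 0, 2, 2, 0, 2],
      [0, -1, 0, 0, 9, 0, -2, 0, -2, -2], [0, 0, 1, 0, 0, -9, 0, 2, 2, 2],
      [0, 0, -2, 0, 0, 0, 0, -4, 2, 2], [-2, 1, -2, 0, 9, 0, -2, -2, -2, 0],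
      [-2, -1, 0, 0, 9, 0, 0, -4, -2, 0], [-1, 1, 0, 9, 9, 0, 0, -2, 2, 0],
      [-2, -4, -2, 0, 0, 0, 0, -2, 0, -4]] i k : ℂ) * yc ((PS.getD k []).map φ) χ = (18 : ℤ) * m := by
  have h := em hm hT ht
  have i3 : ∀ u, kap u = kap (-u) → ∃ z : ℤ, χ (φ (u, 0)) = z := fun u hu =>
    int_of_three hχ (h.cube u) (h.real hu)
  obtain ⟨d, hd⟩ := int_of_sq hχ (x := φ (rep 0, 0)) (by rw [show φ (rep 0, 0) = 1 from h.add.zero, one_pow])
  obtain ⟨A, hA⟩ := i3 (rep 1) (by decide)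
  obtain ⟨B, hB⟩ := i3 (rep 2) (by decide)
  obtain ⟨C, hC⟩ := i3 (rep 3) (by decide)
  obtain ⟨AB, hAB⟩ := i3 (rep 4) (by decide)
  obtain ⟨AC, hAC⟩ := i3 (rep 5) (by decide)
  obtain ⟨BC, hBC⟩ := i3 (rep 6) (by decide)
  have six : ∀ (u : V27) (w w' : W4), kap u = kap (-u) → mul (0, w) (0, w) = (0, 0) →
      mul (u, 0) (0, w) = (u, w) → mul (0, w) (u, 0) = (u, w) → mul (-u, 0) (0, w) = (-u, w) →
      mul (0, w') (u, w) = mul (-u, w) (0, w') →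
      ∃ m : ℤ, χ (φ (u, 0)) + χ (φ (u, w)) = 2 * m := by
    intro u w w' h1 h2 h3 h4 h5 h6
    have := par6 (a := φ (u, 0)) (t := φ (0, w)) (h.cube u)
      (by rw [sq, ← hm.hom, h2]; exact h.add.zero) (by rw [← hm.hom, ← hm.hom, h3, h4])
      (h.real h1) (by
        rw [← show φ (-u, 0) = (φ (u, 0))⁻¹ from h.add.neg u, ← hm.hom, ← hm.hom, h3, h5]
        exact hm.conj_of _ h6) hχ
    rwa [← hm.hom, h3] at this
  obtain ⟨p1, q1⟩ := six (rep 1) (1, 1) (1, 0) (by decide) (by decide) (by decide) (by decide)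
    (by decide) (by decide)
  obtain ⟨p2, q2⟩ := six (rep 2) (0, 1) (1, 0) (by decide) (by decide) (by decide) (by decide)
    (by decide) (by decide)
  obtain ⟨p3, q3⟩ := six (rep 3) (1, 0) (0, 1) (by decide) (by decide) (by decide) (by decide)
    (by decide) (by decide)
  have av := fun (l : V27) (cnt : List ℕ) (n : ℕ) h1 h2 h3 h4 =>
    h.avgS rep 9 (by decide +kernel) (by decide +kernel)
      (Finset.univ.filter fun u : V27 => l.1 * u.1 + l.2.1 * u.2.1 + l.2.2 * u.2.2 = 0) h1 h2 cnt h3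
      (n := n) h4 hχ
  obtain ⟨m0, e0⟩ := av (0, 0, 0) [1, 2, 2, 2, 4, 4, 4, 4, 4] 27 (by decide +kernel)
    (by decide +kernel) (by decide +kernel) (by decide +kernel)
  obtain ⟨m1, e1⟩ := av (1, 0, 0) [1, 0, 2, 2, 0, 0, 4, 0, 0] 9 (by decide +kernel)
    (by decide +kernel) (by decide +kernel) (by decide +kernel)
  obtain ⟨m2, e2⟩ := av (0, 1, 0) [1, 2, 0, 2, 0, 4, 0, 0, 0] 9 (by decide +kernel)
    (by decide +kernel) (by decide +kernel) (by decide +kernel)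
  obtain ⟨m3, e3⟩ := av (0, 0, 1) [1, 2, 2, 0, 4, 0, 0, 0, 0] 9 (by decide +kernel)
    (by decide +kernel) (by decide +kernel) (by decide +kernel)
  obtain ⟨m4, e4⟩ := av (1, 2, 0) [1, 0, 0, 2, 2, 0, 0, 2, 2] 9 (by decide +kernel)
    (by decide +kernel) (by decide +kernel) (by decide +kernel)
  obtain ⟨m5, e5⟩ := av (1, 0, 2) [1, 0, 2, 0, 0, 2, 0, 2, 2] 9 (by decide +kernel)
    (by decide +kernel) (by decide +kernel) (by decide +kernel)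
  obtain ⟨m6, e6⟩ := av (0, 1, 2) [1, 2, 0, 0, 0, 0, 2, 2, 2] 9 (by decide +kernel)
    (by decide +kernel) (by decide +kernel) (by decide +kernel)
  obtain ⟨m7, e7⟩ := h.avgS rep 9 (by decide +kernel) (by decide +kernel)
    {0, (1, 1, 1), (2, 2, 2)} (by decide +kernel) (by decide +kernel)
    [1, 0, 0, 0, 0, 0, 0, 1, 1] (by decide +kernel) (n := 3) (by decide +kernel) hχ
  simp only [Finset.sum_range_succ, Finset.sum_range_zero, List.getD_cons_succ, List.getD_cons_zero,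
    hd, hA, hB, hC, hAB, hAC, hBC] at e0 e1 e2 e3 e4 e5 e6 e7 q1 q2 q3
  push_cast at e0 e1 e2 e3 e4 e5 e6 e7
  have hS : χ (φ (rep 7, 0)) + χ (φ (rep 8, 0)) = (3 * m7 - d : ℤ) := by
    push_cast; linear_combination e7
  have r1 : χ (φ (rep 1, (1, 1))) = (2 * p1 - A : ℤ) := by push_cast; linear_combination q1
  have r2 : χ (φ (rep 2, (0, 1))) = (2 * p2 - B : ℤ) := by push_cast; linear_combination q2
  have r3 : χ (φ (rep 3, (1, 0))) = (2 * p3 - C : ℤ) := by push_cast; linear_combination q3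
  generalize 3 * m7 - d = S at hS
  have f0 : d + 2 * A + 2 * B + 2 * C + 4 * AB + 4 * AC + 4 * BC + 4 * S = 27 * m0 := by
    have : (d + 2 * A + 2 * B + 2 * C + 4 * AB + 4 * AC + 4 * BC + 4 * S : ℂ) = 27 * m0 := by
      linear_combination e0 - 4 * hS
    exact_mod_cast this
  have f1 : d + 2 * B + 2 * C + 4 * BC = 9 * m1 := by
    have : (d + 2 * B + 2 * C + 4 * BC : ℂ) = 9 * m1 := by linear_combination e1
    exact_mod_cast this
  have f2 : d + 2 * A + 2 * C + 4 * AC = 9 * m2 := by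
    have : (d + 2 * A + 2 * C + 4 * AC : ℂ) = 9 * m2 := by linear_combination e2
    exact_mod_cast this
  have f3 : d + 2 * A + 2 * B + 4 * AB = 9 * m3 := by
    have : (d + 2 * A + 2 * B + 4 * AB : ℂ) = 9 * m3 := by linear_combination e3
    exact_mod_cast this
  have f4 : d + 2 * C + 2 * AB + 2 * S = 9 * m4 := by
    have : (d + 2 * C + 2 * AB + 2 * S : ℂ) = 9 * m4 := by linear_combination e4 - 2 * hS
    exact_mod_cast this
  have f5 : d + 2 * B + 2 * AC + 2 * S = 9 * m5 := by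
    have : (d + 2 * B + 2 * AC + 2 * S : ℂ) = 9 * m5 := by linear_combination e5 - 2 * hS
    exact_mod_cast this
  have f6 : d + 2 * A + 2 * BC + 2 * S = 9 * m6 := by
    have : (d + 2 * A + 2 * BC + 2 * S : ℂ) = 9 * m6 := by linear_combination e6 - 2 * hS
    exact_mod_cast this
  have key : ∀ z : ℤ, (18 : ℤ) ∣ z → ∃ m : ℤ, (z : ℂ) = (18 * m : ℤ) := by
    rintro _ ⟨m, rfl⟩
    exact ⟨m, rfl⟩
  clear e0 e1 e2 e3 e4 e5 e6 e7 q1 q2 q3 av six i3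
  rw [lt_ten]
  simp only [Finset.sum_range_succ, Finset.sum_range_zero, List.getD_cons_succ, List.getD_cons_zero,
    PS, yc, gm, g, List.map_cons, List.map_nil, List.sum_cons, List.sum_nil, add_zero,
    hA, hB, hC, hAB, hAC, hBC, hS, r1, r2, r3, ← Int.cast_mul, ← Int.cast_add, zero_add]
  refine ⟨key _ ?_, key _ ?_, key _ ?_, key _ ?_, key _ ?_, key _ ?_, key _ ?_, key _ ?_,
    key _ ?_, key _ ?_⟩ <;> omega

theorem sq_eq {p m : ℂ} (hp : p ≠ 0) (hm : m ≠ 0) (hs : p + m ≠ 0)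
    (h : 1 / p + 1 / m = 4 / (p + m)) : p = m := by
  field_simp at h
  have : (p - m) ^ 2 = 0 := by linear_combination h
  exact sub_eq_zero.1 (pow_eq_zero_iff two_ne_zero |>.1 this)

theorem alg {x0 x1 x2 x3 x4 x5 x6 x7 x8 x9 x10 x11 x12 x13 n : ℂ} (n0 : x0 ≠ 0) (n1 : x1 ≠ 0)
    (n2 : x2 ≠ 0) (n3 : x3 ≠ 0) (n6 : x6 ≠ 0) (n7 : x7 ≠ 0) (n9 : x9 ≠ 0) (n10 : x10 ≠ 0)
    (n12 : x12 ≠ 0) (l3 : x3 = 1 + x8 + x11 - x13) (l4 : x4 = x3) (l5 : x5 = x3)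
    (l9 : x9 = -(1 + x8)) (l10 : x10 = -(1 + x11)) (l12 : x12 = 1 - x13) (l2 : x2 = x11 - x13)
    (l7 : x7 = x8 - x13) (l6 : x6 = -(x8 + x11)) (l0 : x0 + x1 = 2 * x3)
    (r1 : 1 / (-x9) + 1 / x2 = 4 / x3) (r2 : 1 / (-x10) + 1 / x7 = 4 / x3)
    (r3 : 1 / x12 + 1 / (-x6) = 4 / x3) :
    x8 = 1 ∧ x11 = 1 ∧ x13 = -1 := by
  have s1 : x3 = -x9 + x2 := by rw [l3, l9, l2]; ring
  have s2 : x3 = -x10 + x7 := by rw [l3, l10, l7]; ring
  have s3 : x3 = x12 + -x6 := by rw [l3, l12, l6]; ring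
  have a1 := sq_eq (neg_ne_zero.2 n9) n2 (s1 ▸ n3) (s1 ▸ r1)
  have a2 := sq_eq (neg_ne_zero.2 n10) n7 (s2 ▸ n3) (s2 ▸ r2)
  have a3 := sq_eq n12 (neg_ne_zero.2 n6) (s3 ▸ n3) (s3 ▸ r3)
  rw [l9, l2] at a1
  rw [l10, l7] at a2
  rw [l12, l6] at a3
  exact ⟨by linear_combination (-a2 - a3) / 2, by linear_combination (-a1 - a3) / 2,
    by linear_combination (a1 + a2) / 2⟩

set_option maxHeartbeats 2000000 in
theorem card_eq (hm : Mdl H mul φ) (hT : ∀ g, g ∈ T ↔ ∃ u, φ (u, 0) = g) (ht : TI H (SpT T)) :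
    Nat.card G = 108 := by
  have h := em hm hT ht
  have sp : ∀ p : V27 × W4, (mul p (mul p (mul p p))).2 = 0 → mul p (mul p (mul p p)) ≠ (0, 0) →
      SpT T (φ p) := fun p h1 h2 => by
    have e : φ p ^ 4 = φ (mul p (mul p (mul p p))) := by
      simp only [hm.hom, pow_succ, pow_zero, one_mul, mul_assoc]
    refine ⟨4, (hT _).2 ⟨(mul p (mul p (mul p p))).1, by rw [e, ← h1]⟩, fun e' => h2 (hm.inj ?_)⟩
    rw [← e, e']; exact h.add.zero.symm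
  have hsp : ∀ ps ∈ PS, ∀ p ∈ ps, SpT T (φ p) := fun ps hps p hp =>
    have := (by decide +kernel : ∀ ps ∈ PS, ∀ p ∈ ps, (mul p (mul p (mul p p))).2 = 0 ∧
      mul p (mul p (mul p p)) ≠ (0, 0)) ps hps p hp
    sp p this.1 this.2
  obtain ⟨L, hL, Q, hQ, hv⟩ := exists_lvals (K := 10) (fun k => (PS.getD k []).map φ)
    [54, 54, 54, 6, 6, 6, 27, 27, 27, 54] [1, 1, 1, 1, 1, 1, 1, 1, 1, 2]
    (hm.gram_all ht 10 PS _ hsp (by decide +kernel))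
    (by rw [lt_ten]; simp [PS, g]) _ 18 (int hm hT ht)
    [[2, 1, 1, 6, -2, 4, -4, -2, -1, -2], [2, 1, -2, -3, -2, -2, 2, -2, 2, -2], [-1, -2, -2, 0, 1,
      -2, -4, 4, 2, -2], [0, -1, 1, 0, 0, 0, 0, 0, 1, 0], [0, 1, 0, 1, 0, 0, 0, 0, 0, 0], [-1, 0, 0,
      0, -1, 0, 0, 0, 0, 0], [2, 4, 1, -3, -2, -2, -1, 1, -1, 1], [-1, 1, 1, 0, 1, -2, 2, -2, -1,
      1], [-1, 1, -2, 0, 1, 1, -1, -2, 2, 1], [-2, -1, 2, 0, 2, 2, 1, 2, -2, -1]]
    [[2, 0, 0, 1, 0, 0, 1, 1, 1, 1], [0, 2, 0, 0, 1, 1, 1, 1, 1, -1], [0, 0, 2, -1, 1, 0, -1, -1,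
      0, -1], [1, 0, -1, 3, -1, -1, 2, 2, 1, 2], [0, 1, 1, -1, 3, 0, -1, -1, 0, -2], [0, 1, 0, -1,
      0, 3, 1, 1, 1, 0], [1, 1, -1, 2, -1, 1, 4, 3, 2, 1], [1, 1, -1, 2, -1, 1, 3, 4, 2, 2], [1, 1,
      0, 1, 0, 1, 2, 2, 3, 1], [1, -1, -1, 2, -2, 0, 1, 2, 1, 6]]
    [[[1]], [[1, 0], [0, 1]], [[1, 0, 0], [0, 1, 0], [0, 0, 1]], [[5, 0, -1, -2], [0, 4, 0, 0],
      [-1, 0, 5, 2], [-2, 0, 2, 4]], [[19, 1, -3, -8, -2], [1, 19, 3, -2, -8], [-3, 3, 21, 6, -6],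
      [-8, -2, 6, 16, 4], [-2, -8, -6, 4, 16]], [[35, 8, -6, -19, -7, -9], [8, 47, 3, -16, -22,
      -21], [-6, 3, 36, 12, -9, 3], [-19, -16, 12, 38, 14, 18], [-7, -22, -9, 14, 32, 12], [-9, -21,
      3, 18, 12, 30]], [[17, 5, -3, -7, -4, -3, -3], [5, 25, 1, -3, -12, -7, -7], [-3, 1, 17, 5, -4,
      1, 1], [-7, -3, 5, 25, 4, 13, -11], [-4, -12, -4, 4, 16, 4, 4], [-3, -7, 1, 13, 4, 17, -7],
      [-3, -7, 1, -11, 4, -7, 17]], [[67, 22, -12, -23, -17, -9, -9, -9], [22, 103, 3, -2, -50, -21,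
      -21, -21], [-12, 3, 66, 18, -15, 3, 3, 3], [-23, -2, 18, 112, 10, 60, -33, -33], [-17, -50,
      -15, 10, 64, 12, 12, 12], [-9, -21, 3, 60, 12, 72, -21, -21], [-9, -21, 3, -33, 12, -21, 72,
      -21], [-9, -21, 3, -33, 12, -21, -21, 72]], [[34, 12, -4, -10, -8, -3, -3, -3, -7], [12, 51,
      3, 0, -24, -9, -9, -9, -6], [-4, 3, 34, 10, -7, 3, 3, 3, -8], [-10, 0, 10, 55, 5, 30, -15,
      -15, -5], [-8, -24, -7, 5, 31, 6, 6, 6, -1], [-3, -9, 3, 30, 6, 36, -9, -9, -6], [-3, -9, 3,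
      -15, 6, -9, 36, -9, -6], [-3, -9, 3, -15, 6, -9, -9, 36, -6], [-7, -6, -8, -5, -1, -6, -6, -6,
      31]], [[32, 10, -4, -8, -8, -2, -4, -2, -6, -2], [10, 53, 4, -6, -20, -12, -3, -12, -8, 9],
      [-4, 4, 32, 8, -6, 2, 4, 2, -8, 2], [-8, -6, 8, 58, 2, 32, -20, -10, -2, -10], [-8, -20, -6,
      2, 30, 4, 8, 4, -2, 4], [-2, -12, 2, 32, 4, 36, -12, -6, -4, -6], [-4, -3, 4, -20, 8, -12, 39,
      -12, -8, 9], [-2, -12, 2, -10, 4, -6, -12, 36, -4, -6], [-6, -8, -8, -2, -2, -4, -8, -4, 30,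
      -4], [-2, 9, 2, -10, 4, -6, 9, -6, -4, 15]]] 2 46
    [[1, 0, 0, 1, 0, 0, 1, 1, 1, 1], [1, 0, 0, 0, 0, 0, 0, 0, 0, 0], [0, 1, 0, 0, 1, 0, 0, 0, 0,
      -1], [0, 1, 0, 0, 0, 1, 1, 1, 1, 0], [0, 0, 1, 0, 0, 0, 0, 0, 0, 0], [0, 0, 1, -1, 1, 0, -1,
      -1, 0, -1], [0, 0, 0, 1, 0, -1, 0, 0, 0, 1], [0, 0, 0, 1, 0, -1, 0, 0, 0, 0], [0, 0, 0, 1, -1,
      0, 1, 1, 1, 1], [0, 0, 0, 0, 1, 0, 0, 0, 0, 0], [0, 0, 0, 0, 1, 0, 0, 0, 0, -1], [0, 0, 0, 0,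
      0, 1, 0, 0, 0, 1], [0, 0, 0, 0, 0, 1, 0, 0, 0, 0], [0, 0, 0, 0, 0, 0, 1, 0, 0, 0], [0, 0, 0,
      0, 0, 0, 1, 0, 0, -1], [0, 0, 0, 0, 0, 0, 0, 1, 0, 1], [0, 0, 0, 0, 0, 0, 0, 1, 0, 0], [0, 0,
      0, 0, 0, 0, 0, 0, 1, 1], [0, 0, 0, 0, 0, 0, 0, 0, 1, 0], [0, 0, 0, 0, 0, 0, 0, 0, 0, 1]]
    [[[0, 0, 0, 0, 0, 0, 0, 0, 0, 1], [0, 0, 0, 0, 0, 0, 0, 0, 0, 1], [0, 0, 0, 0, 0, 0, 0, 0, 1,
      0], [0, 0, 0, 0, 0, 0, 0, 1, 0, 0], [0, 0, 0, 0, 0, 0, 1, 0, 0, -1], [0, 0, 0, 0, 0, 1, 0, 0,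
      0, 0], [0, 0, 0, 0, 1, 0, 0, 0, 0, 0], [0, 0, 0, 1, 0, -1, 0, 0, 0, 0], [0, 0, 1, -1, 1, 0,
      -1, -1, 0, -1], [0, 0, 1, 0, 0, 0, 0, 0, 0, 0], [0, 1, 0, 0, 0, 1, 1, 1, 1, 0], [0, 1, 0, 0,
      1, 0, 0, 0, 0, -1], [1, 0, 0, 0, 0, 0, 0, 0, 0, 0], [1, 0, 0, 1, 0, 0, 1, 1, 1, 1]]]
    [[[-2, -2, -2, 0, 0, 0, 1, 1, 1, -1], [-2, -2, -2, 0, 0, 0, 1, 1, 1, -1], [-1, 2, 2, 1, 0, 0,
      -1, -1, 2, -2], [-2, -2, 4, 0, 0, 0, 1, -2, -2, 2], [-2, 4, -2, 0, 0, 0, -2, 1, -2, 2], [4,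
      -2, -2, 0, 0, 0, -2, -2, 1, 2], [-2, -2, 1, 0, 0, -1, -2, 1, 1, 2], [2, -1, 2, 0, 1, 0, -1, 2,
      -1, -2], [1, 1, 1, 1, -1, -1, 1, 1, 1, 2], [1, -2, -2, 1, 0, 0, 1, 1, -2, 2], [-2, 1, -2, 0,
      1, 0, 1, -2, 1, 2], [1, 1, 1, -1, 1, -1, 1, 1, 1, 2], [2, 2, -1, 0, 0, -1, 2, -1, -1, -2],
      [-1, -1, -1, 1, 1, -1, -1, -1, -1, -2]]] (by decide +kernel)
  obtain rfl := List.mem_singleton.1 hQ
  rcases hv with _ | ⟨h0, _ | ⟨h1, _ | ⟨h2, _ | ⟨h3, _ | ⟨h4, _ | ⟨h5, _ | ⟨h6, _ | ⟨h7, _ | ⟨h8,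
    _ | ⟨h9, _ | ⟨h10, _ | ⟨h11, _ | ⟨h12, _ | ⟨h13, _ | _⟩⟩⟩⟩⟩⟩⟩⟩⟩⟩⟩⟩⟩⟩
  rename_i a0 a1 a2 a3 a4 a5 a6 a7 a8 a9 a10 a11 a12 a13
  have hd : ∀ k < 10, ((((PS.getD k []).map φ).length : ℕ) : ℂ) + ([a0, a1, a2, a3, a4, a5, a6, a7, a8,
      a9, a10, a11, a12, a13].map fun α => α 1 * yc ((PS.getD k []).map φ) α).sum = 0 :=
    fun k hk => hL.deg hk fun x hx => by
      obtain ⟨p, hp, rfl⟩ := List.mem_map.1 hx
      intro e
      exact (by decide +kernel : ∀ k : Fin 10, ∀ p ∈ PS.getD k [], p ≠ ((0, 0) : V27 × W4)) ⟨k, hk⟩ p hp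
        (hm.inj (e.trans h.add.zero.symm))
  have cf : ∀ (i j k n : ℕ) (z z' : ℕ), i < 10 → PS.getD i [] = [(rep (i + 1), 0)] → rep k ≠ 0 →
      kap (rep k) = kap (-rep k) →
      ¬ (kap (rep (i + 1)) = kap (rep j) ∧ kap (rep (i + 1)) = kap (-rep k)) →
      (Finset.univ.filter fun u => kap (rep (i + 1)) = kap u ∧
        kap (rep j) = kap (-u + rep k)).card = n →
      (n : ℂ) * Nat.card (centralizer ({φ (rep (i + 1), 0)} : Set G)) *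
        Nat.card (centralizer ({φ (rep j, 0)} : Set G)) = Nat.card G * (1 + ([a0, a1, a2, a3, a4,
        a5, a6, a7, a8, a9, a10, a11, a12, a13].map fun α => α (φ (rep (i + 1), 0)) *
          α (φ (rep j, 0)) * α (φ (rep k, 0)) / α 1).sum) := by
    intro i j k n _ _ hi e h1 h2 h3 h4
    rw [← h4, ← h.coeff _ _ _ h1 h3]
    exact hL.coeff hi _ _ _ (h.real h2) (Or.inl (by simp only [e]; rfl))
  have E1 := cf 0 2 3 0 0 0 (by omega) rfl (by decide) (by decide) (by decide) (by decide +kernel)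
  have E2 := cf 0 1 2 0 0 0 (by omega) rfl (by decide) (by decide) (by decide) (by decide +kernel)
  have E3 := cf 0 1 3 0 0 0 (by omega) rfl (by decide) (by decide) (by decide) (by decide +kernel)
  have E4 := cf 1 2 1 0 0 0 (by omega) rfl (by decide) (by decide) (by decide) (by decide +kernel)
  have E5 := cf 1 2 3 0 0 0 (by omega) rfl (by decide) (by decide) (by decide) (by decide +kernel)
  have E6 := cf 0 2 4 1 0 0 (by omega) rfl (by decide) (by decide) (by decide) (by decide +kernel)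
  rw [hm.cent ht (hsp [(rep 1, 0)] (by simp [PS]) _ List.mem_cons_self),
    hm.cent ht (hsp [(rep 2, 0)] (by simp [PS]) _ List.mem_cons_self),
    show (Finset.univ.filter fun r => mul r (rep 1, 0) = mul (rep 1, 0) r).card = 54 by
      decide +kernel,
    show (Finset.univ.filter fun r => mul r (rep 2, 0) = mul (rep 2, 0) r).card = 54 by
      decide +kernel] at E6
  rw [Nat.cast_zero, zero_mul, zero_mul, eq_comm, mul_eq_zero, or_iff_right H6.card_ne_zero]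
    at E1 E2 E3 E4 E5
  have nz : ∀ α ∈ [a0, a1, a2, a3, a4, a5, a6, a7, a8, a9, a10, a11, a12, a13], α 1 ≠ 0 :=
    fun α hα => (hL.si α hα).one_ne_zero
  simp only [List.forall_mem_cons] at nz
  obtain ⟨n0, n1, n2, n3, n4, n5, n6, n7, n8, n9, n10, n11, n12, n13, -⟩ := nz
  rw [lt_ten] at hd
  simp only [lt_ten, List.getD_cons_succ, List.getD_cons_zero,
    PS, yc, g, List.map_cons, List.map_nil, List.sum_cons, List.sum_nil, add_zero]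
    at h0 h1 h2 h3 h4 h5 h6 h7 h8 h9 h10 h11 h12 h13
  simp only [List.getD_cons_succ, List.getD_cons_zero, zero_add, Nat.reduceAdd,
    PS, yc, List.map_cons, List.map_nil, List.sum_cons, List.sum_nil, add_zero,
    h0, h1, h2, h3, h4, h5, h6, h7, h8, h9, h10, h11, h12, h13, List.length_cons, List.length_nil]
    at hd E1 E2 E3 E4 E5 E6
  clear h0 h1 h2 h3 h4 h5 h6 h7 h8 h9 h10 h11 h12 h13 cf hL
  obtain ⟨d0, d1, d2, d3, d4, d5, d6, d7, d8, d9⟩ := hd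
  push_cast at d0 d1 d2 d3 d4 d5 d6 d7 d8 d9 E1 E2 E3 E4 E5 E6
  generalize a0 1 = x0 at *
  generalize a1 1 = x1 at *
  generalize a2 1 = x2 at *
  generalize a3 1 = x3 at *
  generalize a4 1 = x4 at *
  generalize a5 1 = x5 at *
  generalize a6 1 = x6 at *
  generalize a7 1 = x7 at *
  generalize a8 1 = x8 at *
  generalize a9 1 = x9 at *
  generalize a10 1 = x10 at *
  generalize a11 1 = x11 at *
  generalize a12 1 = x12 at *
  generalize a13 1 = x13 at *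
  have l3 : x3 = 1 + x8 + x11 - x13 := by
    linear_combination (-1/9) * d0 + (-1/9) * d1 + (-1/9) * d6 + (-2/9) * d7 + (-2/9) * d8 +
      (-1/9) * d9
  have l4 : x4 = x3 := by linear_combination (1/9) * d1 + (-1/9) * d2 + (-1/9) * d6 + (1/9) * d7
  have l5 : x5 = x3 := by linear_combination (1/9) * d0 + (-1/9) * d2 + (-1/9) * d6 + (1/9) * d8
  have l9 : x9 = -(1 + x8) := by
    linear_combination (1/18) * d0 + (1/2) * d3 + (1/9) * d6 + (1/9) * d7 + (1/9) * d9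
  have l10 : x10 = -(1 + x11) := by
    linear_combination (1/18) * d1 + (1/2) * d4 + (1/9) * d6 + (1/9) * d8 + (1/9) * d9
  have l12 : x12 = 1 - x13 := by
    linear_combination (-1/18) * d2 + (-1/2) * d5 + (-1/9) * d7 + (-1/9) * d8 + (-1/9) * d9
  have l2 : x2 = x11 - x13 := by
    linear_combination (-1/18) * d0 + (1/2) * d3 + (-1/9) * d6 + (-1/9) * d7 + (-1/9) * d9
  have l7 : x7 = x8 - x13 := by
    linear_combination (-1/18) * d1 + (1/2) * d4 + (-1/9) * d6 + (-1/9) * d8 + (-1/9) * d9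
  have l6 : x6 = -(x8 + x11) := by
    linear_combination (1/18) * d2 + (-1/2) * d5 + (1/9) * d7 + (1/9) * d8 + (1/9) * d9
  have l0 : x0 + x1 = 2 * x3 := by
    linear_combination (-2/9) * d2 + (2/9) * d7 + (2/9) * d8 + (-1/9) * d9
  clear d0 d1 d2 d3 d4 d5 d6 d7 d8 d9
  subst l4 l5
  have q23 : 1 / (-x10) + 1 / x7 = 1 / x12 + 1 / (-x6) := by
    simp only [div_neg]; linear_combination (E3 - E2) / 12
  have q13 : 1 / (-x9) + 1 / x2 = 1 / x12 + 1 / (-x6) := by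
    simp only [div_neg]; linear_combination (E5 - E4) / 12
  have r3 : 1 / x12 + 1 / (-x6) = 4 / x5 := by
    simp only [div_neg] at q23 q13 ⊢
    linear_combination (E2 - E1) / 18 - q13 / 3
  obtain ⟨rfl, rfl, rfl⟩ := alg (n := 0) n0 n1 n2 n3 n6 n7 n9 n10 n12 l3 rfl rfl l9 l10 l12 l2 l7 l6
    l0 (q13.trans r3) (q23.trans r3) r3
  subst l3 l9 l10 l12 l2 l7 l6
  have : (Nat.card G : ℂ) = 108 := by
    linear_combination (-1 / 27 : ℂ) * E6 + (Nat.card G : ℂ) / 54 * E2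
  exact_mod_cast this

end H53.Odd.H108
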